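import Groth.Agent.Lib.UnipFix19.CWord
import Groth.Agent.Lib.Flag27.CentralTorus
import Groth.Agent.Lib.GenSubgrp14.Connected
import Groth.Agent.Lib.Rigidity.SmoothGroup
import Groth.Agent.Lib.Dim.QuasiFinite
import Groth.Prelude.Def_Red2

/-!
# Normalizers grow in smooth connected unipotent groups
-/

set_option autoImplicit false
set_option linter.all false
set_option backward.isDefEq.respectTransparency false
set_option maxHeartbeats 1000000

universe u

open CategoryTheory CategoryTheory.Limits MonoidalCategory CartesianMonoidalCategory MonObj GrpObj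
open AlgebraicGeometry
open scoped commutatorElement

noncomputable section

namespace GrothLib.UnipNorm3

open GrothLib GrothLib.UnipFix19

variable {k : Type u} [Field k]

/-- A smooth connected affine group without subtori is nilpotent. -/
theorem isNilpotentGrp_of_noSubtorus (G : Over (Spec (CommRingCat.of k))) [GrpObj G] [IsAffine G.left]
    [Smooth G.hom] [ConnectedSpace G.left]
    (h : ∀ s : ↥(Spec (CommRingCat.of k)),
      Red.HasNoSubtorus (AlgebraicClosure ((Spec (CommRingCat.of k)).residueField s)) (Red.geomFibre s G)) :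
    AGF.IsNilpotentGrp G := by
  let s : ↥(Spec (CommRingCat.of k)) := (Classical.arbitrary (PrimeSpectrum k) : PrimeSpectrum k)
  let q := Red.geomPt s
  haveI : Surjective q := Flag27.surjective_to_field q
  haveI : Flat q := Flag27.flat_to_field q
  haveI : IsAffine (Red.bc q G).left := Flag27.isAffine_bc q G
  haveI : Smooth (Red.bc q G).hom := inferInstanceAs (Smooth (pullback.snd G.hom q))
  haveI : ConnectedSpace ↥(Red.bc q G).left := Flag27.connectedSpace_bc q G
  refine Flag27.isNilpotentGrp_of_bc q (Flag27.isNilpotentGrp_of_unique_maxTorus ?_)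
  intro T T' _ _ iT iT' hT hT'
  obtain ⟨h1, h2, h3, -⟩ := hT
  obtain ⟨h1', h2', h3', -⟩ := hT'
  haveI := h1; haveI := h2; haveI := h1'; haveI := h2'
  haveI hi : IsIso T.hom := h s T iT h3
  haveI hi' : IsIso T'.hom := h s T' iT' h3'
  refine ⟨Over.isoMk (asIso T.hom ≪≫ (asIso T'.hom).symm) (by simp), ?_⟩
  have key : ∀ {A : Over (Spec (CommRingCat.of (AlgebraicClosure ((Spec (CommRingCat.of k)).residueField s))))}
      [GrpObj A] (a : A ⟶ Red.bc q G) [IsMonHom a], IsIso A.hom → a = toUnit A ≫ η[Red.bc q G] := by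
    intro A _ a _ hA
    haveI := hA
    haveI : Mono (toUnit A) := by
      haveI : Mono (toUnit A).left := by rw [Over.toUnit_left]; infer_instance
      exact Over.mono_of_mono_left _
    have : toUnit A ≫ η[A] = 𝟙 A := by rw [← cancel_mono (toUnit A)]; exact toUnit_unique _ _
    rw [← IsMonHom.one_hom a, ← Category.assoc, this, Category.id_comp]
  rw [key iT hi, key iT' hi', ← Category.assoc, toUnit_unique (_ ≫ toUnit T') (toUnit T)]

variable {G : Over (Spec (CommRingCat.of k))} [GrpObj G] {U : Over (Spec (CommRingCat.of k))} [GrpObj U]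
  (i : U ⟶ G) [IsMonHom i]

/-- A point normalizes the subgroup on points with values in its source. -/
def Normalizes {T : Over (Spec (CommRingCat.of k))} (g : T ⟶ G) (u : T ⟶ U) : Prop :=
  (∃ u' : T ⟶ U, g * (u ≫ i) * g⁻¹ = u' ≫ i) ∧ ∃ u' : T ⟶ U, g⁻¹ * (u ≫ i) * g = u' ≫ i

/-- A commutator word not lying in a proper subgroup of a nilpotent group but normalizing it. -/
theorem exists_word (hG : AGF.IsNilpotentGrp G) (hne : ¬ ∃ l : G ⟶ U, l ≫ i = 𝟙 G) :
    ∃ j : ℕ, (¬ ∃ l : csrc G j ⟶ U, l ≫ i = cword G j) ∧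
      ∀ (T : Over (Spec (CommRingCat.of k))) (t : T ⟶ csrc G j) (u : T ⟶ U), Normalizes i (t ≫ cword G j) u := by
  classical
  obtain ⟨n, hn⟩ := exists_cword_eq_one hG
  let P : ℕ → Prop := fun m => ∃ l : csrc G m ⟶ U, l ≫ i = cword G m
  have hP : ∃ m, P m := ⟨n, 1, by rw [MonObj.one_comp, hn]⟩
  obtain ⟨j, hj⟩ : ∃ j, Nat.find hP = j + 1 := Nat.exists_eq_succ_of_ne_zero fun h => hne (by
    have := Nat.find_spec hP
    rw [h] at this
    exact this)
  refine ⟨j, Nat.find_min hP (by omega), ?_⟩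
  obtain ⟨l, hl⟩ : P (j + 1) := hj ▸ Nat.find_spec hP
  intro T t u
  let c := t ≫ cword G j
  have hc : ∀ v : T ⟶ U, ∃ v' : T ⟶ U, ⁅c, v ≫ i⁆ = v' ≫ i := fun v => ⟨lift t (v ≫ i) ≫ l, by
    rw [Category.assoc, hl, comp_cword_succ, lift_fst, lift_snd]⟩
  obtain ⟨m, hm⟩ := hG
  have hd : ∀ (a : ℕ) (v : T ⟶ U), v ≫ i ∈ Subgroup.upperCentralSeries (T ⟶ G) a →
      ∃ v' : T ⟶ U, ⁅c⁻¹, v ≫ i⁆ = v' ≫ i := by
    intro a
    induction a with
    | zero =>
      intro v hv
      rw [Subgroup.upperCentralSeries_zero, Subgroup.mem_bot] at hv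
      exact ⟨1, by rw [MonObj.one_comp, hv]; simp [commutatorElement_def]⟩
    | succ a ih =>
      intro v hv
      obtain ⟨d, hd⟩ := hc v
      have hd' : (d⁻¹ : T ⟶ U) ≫ i = ⁅v ≫ i, c⁆ := by
        rw [GrpObj.inv_comp, ← hd, commutatorElement_inv]
      obtain ⟨e, he⟩ := ih d⁻¹ (by
        rw [hd']
        exact Subgroup.mem_upperCentralSeries_succ_iff.1 hv c)
      refine ⟨e * d⁻¹, ?_⟩
      rw [MonObj.mul_comp, ← he, hd']
      simp only [commutatorElement_def]
      group
  refine ⟨?_, ?_⟩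
  · show ∃ u' : T ⟶ U, c * (u ≫ i) * c⁻¹ = u' ≫ i
    obtain ⟨v', hv'⟩ := hc u
    refine ⟨v' * u, ?_⟩
    rw [MonObj.mul_comp, ← hv', commutatorElement_def]
    group
  · show ∃ u' : T ⟶ U, c⁻¹ * (u ≫ i) * c = u' ≫ i
    obtain ⟨v', hv'⟩ := hd m u (by rw [hm T]; trivial)
    refine ⟨v' * u, ?_⟩
    rw [MonObj.mul_comp, ← hv', commutatorElement_def]
    group

/-- A proper subgroup of a nilpotent group is a proper subgroup of its normalizer. -/
theorem normalizer_not_le (hG : AGF.IsNilpotentGrp G) (hne : ¬ ∃ l : G ⟶ U, l ≫ i = 𝟙 G)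
    {N : Over (Spec (CommRingCat.of k))} [GrpObj N] {n : N ⟶ G} (hn : Red.IsNormalizerOf i n) :
    ¬ ∃ f : N ⟶ U, f ≫ i = n := by
  rintro ⟨f, hf⟩
  obtain ⟨j, hj, hN⟩ := exists_word i hG hne
  obtain ⟨z, hz⟩ := (hn.2.2 (csrc G j) (cword G j)).2 fun X' x h => hN X' x h
  exact hj ⟨z ≫ f, by rw [Category.assoc, hf, hz]⟩

/-- A smooth connected subgroup of codimension one of a nilpotent group is normal. -/
theorem isNormalHom_of_dim [IsAffine G.left] [Smooth G.hom] [ConnectedSpace G.left] [IsClosedImmersion i.left]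
    [Smooth U.hom] [ConnectedSpace U.left] (hG : AGF.IsNilpotentGrp G)
    (d : ℕ) (hd : topologicalKrullDim ↥U.left = (d : WithBot ℕ∞))
    (hd' : topologicalKrullDim ↥G.left = ((d + 1 : ℕ) : WithBot ℕ∞)) : AlgGrp.IsNormalHom i := by
  classical
  haveI : GeometricallyReduced U.hom := Rigidity.geometricallyReduced_of_smooth' U.hom
  haveI : GeometricallyReduced G.hom := Rigidity.geometricallyReduced_of_smooth' G.hom
  by_cases hne : ∃ l : G ⟶ U, l ≫ i = 𝟙 G
  · obtain ⟨l, hl⟩ := hne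
    exact fun T g u => ⟨(g * (u ≫ i) * g⁻¹) ≫ l, by rw [Category.assoc, hl, Category.comp_id]⟩
  obtain ⟨j, hj, hN⟩ := exists_word i hG hne
  haveI : Smooth (csrc G j).hom := smooth_csrc j
  obtain ⟨hjc, x₀, hx₀⟩ := connected_csrc (G := G) j
  haveI := hjc
  let Gen := GenSubgrp14.Two i (cword G j)
  have hGen : ∀ (A : Over (Spec (CommRingCat.of k))) (g : A ⟶ G), Gen A g → GeometricallyReduced A.hom ∧
      ConnectedSpace A.left ∧ ∃ x : 𝟙_ (Over (Spec (CommRingCat.of k))) ⟶ A, x ≫ g = η[G] := by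
    intro A g hg
    cases hg
    · exact ⟨inferInstance, inferInstance, η[U], IsMonHom.one_hom i⟩
    · exact ⟨Rigidity.geometricallyReduced_of_smooth' (csrc G j).hom, inferInstance, x₀,
        by rw [GenSubgrp14.eta_eq_one]; exact hx₀⟩
  obtain ⟨E⟩ := GenSubgrp14.nonempty_envelope Gen fun A g hg => (hGen A g hg).1
  let _ := E.grp
  haveI := E.isMonHom
  haveI := E.isClosedImmersion
  haveI := E.geometricallyReduced
  haveI : LocallyOfFiniteType E.Z.hom := by rw [← Over.w E.z]; infer_instance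
  haveI : Smooth E.Z.hom := by
    letI : GrpObj (Over.mk E.Z.hom) := (E.grp : GrpObj E.Z)
    exact smooth_of_grpObj E.Z.hom
  haveI : ConnectedSpace E.Z.left := GenSubgrp14.connectedSpace_of_min Gen hGen E.Z E.z
    (fun A g h => E.lift_word A g (.of h))
    (fun Γ' _ i' _ hc hh => GenSubgrp14.exists_over_lift E.z i' (E.range_eq.le.trans
      (closure_minimal (fun g ⟨W, w, hw, hg⟩ => by
        obtain ⟨w', rfl⟩ := hw.lift_of_gen i' hh
        exact GenSubgrp14.range_subset_of_comp w' i' hg) i'.left.isClosedEmbedding.isClosed_range)))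
  -- dimension
  haveI : IrreducibleSpace G.left := Rigidity.irreducibleSpace_of_connected G
  haveI : IrreducibleSpace E.Z.left := Rigidity.irreducibleSpace_of_connected E.Z
  obtain ⟨lU, hlU⟩ := E.lift_word U i (.of .left)
  haveI : IsClosedImmersion (lU.left ≫ E.z.left) := by rw [← Over.comp_left, hlU]; infer_instance
  haveI : IsClosedImmersion lU.left := IsClosedImmersion.of_comp lU.left E.z.left
  have hZU : Set.range lU.left ≠ Set.univ := by
    intro heq
    obtain ⟨l, hl⟩ := E.lift_word (csrc G j) (cword G j) (.of .right)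
    haveI : GeometricallyReduced (csrc G j).hom := Rigidity.geometricallyReduced_of_smooth' (csrc G j).hom
    refine hj (GenSubgrp14.exists_over_lift (cword G j) i ?_)
    rintro _ ⟨v, rfl⟩
    obtain ⟨w, hw⟩ : l.left v ∈ Set.range lU.left := heq ▸ Set.mem_univ _
    refine ⟨w, ?_⟩
    rw [← hlU, ← hl, Over.comp_left, Over.comp_left, Scheme.Hom.comp_apply, Scheme.Hom.comp_apply, hw]
  have hUd : topologicalKrullDim (Set.range lU.left) = (d : WithBot ℕ∞) :=
    (IsHomeomorph.topologicalKrullDim_eq _ lU.left.isClosedEmbedding.isEmbedding.toHomeomorph.isHomeomorph).symm.trans hd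
  have hgt : ¬ topologicalKrullDim ↥E.Z.left ≤ (d : WithBot ℕ∞) := fun h =>
    hZU (Dim.eq_univ_of_dim_le lU.left.isClosedEmbedding.isClosed_range (h.trans hUd.ge) hUd)
  have hZd : topologicalKrullDim (Set.range E.z.left) = topologicalKrullDim ↥E.Z.left :=
    (IsHomeomorph.topologicalKrullDim_eq _ E.z.left.isClosedEmbedding.isEmbedding.toHomeomorph.isHomeomorph).symm
  have hle : topologicalKrullDim ↥E.Z.left ≤ ((d + 1 : ℕ) : WithBot ℕ∞) :=
    E.z.left.isClosedEmbedding.topologicalKrullDim_le.trans hd'.le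
  have hge : ((d + 1 : ℕ) : WithBot ℕ∞) ≤ topologicalKrullDim ↥E.Z.left := by
    revert hgt
    induction topologicalKrullDim ↥E.Z.left using WithBot.recBotCoe with
    | bot => exact fun h => absurd bot_le h
    | coe a =>
      intro h
      have h' : ((d : ℕ∞) : WithBot ℕ∞) < (a : WithBot ℕ∞) := lt_of_not_ge h
      rw [WithBot.coe_lt_coe] at h'
      exact WithBot.coe_le_coe.2 (Order.add_one_le_of_lt h')
  have huniv : Set.range E.z.left = Set.univ :=
    Dim.eq_univ_of_dim_le E.z.left.isClosedEmbedding.isClosed_range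
      (by rw [hd', hZd]; exact hge) (hZd.trans (le_antisymm hle hge))
  -- words normalize
  have hw : ∀ (W : Over (Spec (CommRingCat.of k))) (w : W ⟶ G), GenSubgrp14.IsWord Gen W w →
      ∀ (T : Over (Spec (CommRingCat.of k))) (t : T ⟶ W) (u : T ⟶ U), Normalizes i (t ≫ w) u := by
    intro W w h
    induction h with
    | one =>
      intro T t u
      rw [GenSubgrp14.eta_eq_one, MonObj.comp_one]
      exact ⟨⟨u, by simp⟩, ⟨u, by simp⟩⟩
    | of h =>
      cases h
      · intro T t u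
        exact ⟨⟨t * u * t⁻¹, by simp [MonObj.mul_comp, GrpObj.inv_comp]⟩,
          ⟨t⁻¹ * u * t, by simp [MonObj.mul_comp, GrpObj.inv_comp]⟩⟩
      · intro T t u
        exact hN T t u
    | inv _ ih =>
      intro T t u
      rw [GrpObj.comp_inv]
      obtain ⟨h1, h2⟩ := ih T t u
      exact ⟨by simpa using h2, by simpa using h1⟩
    | @mul W W' w w' _ _ ih ih' =>
      intro T t u
      rw [MonObj.comp_mul, ← Category.assoc, ← Category.assoc]
      obtain ⟨⟨a, ha⟩, -⟩ := ih' T (t ≫ snd W W') u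
      obtain ⟨⟨b, hb⟩, -⟩ := ih T (t ≫ fst W W') a
      obtain ⟨-, ⟨a', ha'⟩⟩ := ih T (t ≫ fst W W') u
      obtain ⟨-, ⟨b', hb'⟩⟩ := ih' T (t ≫ snd W W') a'
      refine ⟨⟨b, ?_⟩, ⟨b', ?_⟩⟩
      · rw [← hb, ← ha]; group
      · rw [← hb', ← ha']; group
  have hD : Dense (E.z.left.base ⁻¹' GenSubgrp14.wordSet Gen) := by
    rw [E.z.left.isClosedEmbedding.isInducing.dense_iff]
    intro y
    rw [Set.image_preimage_eq_of_subset]
    · exact E.range_eq.le ⟨y, rfl⟩
    · intro g hg
      exact E.range_eq.ge (subset_closure hg)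
  haveI := GenSubgrp14.geometricallyReduced_tensor E.Z U
  let φ : E.Z ⊗ U ⟶ G := (fst E.Z U ≫ E.z) * (snd E.Z U ≫ i) * (fst E.Z U ≫ E.z)⁻¹
  obtain ⟨ψ, hψ⟩ := GenSubgrp14.exists_over_lift φ i (by
    rintro _ ⟨y, rfl⟩
    refine closure_minimal ?_ (i.left.isClosedEmbedding.isClosed_range.preimage φ.left.continuous)
      ((hD.preimage (GenSubgrp14.isOpenMap_fst E.Z U)) y)
    rintro q ⟨W, w, hW, v, hv⟩
    obtain ⟨l, hl⟩ := E.lift_word W w hW
    obtain ⟨r, rfl⟩ := GenSubgrp14.range_lift_fst U l q v (E.z.left.isClosedEmbedding.injective (by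
      rw [← hv, ← Scheme.Hom.comp_apply l.left, ← Over.comp_left, hl]))
    obtain ⟨u', hu'⟩ := (hw W w hW (W ⊗ U) (fst W U) (snd W U)).1
    have e : (l ▷ U) ≫ φ = u' ≫ i := by
      simp only [φ, MonObj.comp_mul, GrpObj.comp_inv, whiskerRight_fst_assoc, whiskerRight_snd_assoc, hl, ← hu']
    refine ⟨u'.left r, ?_⟩
    rw [← Scheme.Hom.comp_apply, ← Scheme.Hom.comp_apply, ← Over.comp_left, ← Over.comp_left, e])
  obtain ⟨σ, hσ⟩ := GenSubgrp14.exists_over_lift (𝟙 G) E.z (by rw [huniv]; exact Set.subset_univ _)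
  intro T g u
  refine ⟨lift (g ≫ σ) u ≫ ψ, ?_⟩
  rw [Category.assoc, hψ]
  simp only [φ, MonObj.comp_mul, GrpObj.comp_inv, lift_fst_assoc, lift_snd_assoc, Category.assoc, hσ, Category.comp_id]

end GrothLib.UnipNorm3
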